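import Groth.Agent.Henz21.IntegralLoc
import Mathlib.AlgebraicGeometry.Limits
import Mathlib.AlgebraicGeometry.Morphisms.Integral
import Mathlib.AlgebraicGeometry.Morphisms.Separated

/-!
Images of semilocal integral schemes over a henselian local scheme are affine.
-/

set_option autoImplicit false

universe u

open CategoryTheory CategoryTheory.Limits AlgebraicGeometry IsLocalRing

namespace Groth.Agent.FinFib95

variable {A : Type u} [CommRing A] [HenselianLocalRing A] {D : Type u} [CommRing D] [Algebra A D]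

theorem exists_isolating [Algebra.IsIntegral A D] (hfin : {P : Ideal D | P.IsMaximal}.Finite)
    (Q : Ideal D) [Q.IsMaximal] :
    ∃ ε : D, IsIdempotentElem ε ∧ ε ∉ Q ∧ ∀ P : Ideal D, P.IsMaximal → ε ∉ P → P = Q := by
  classical
  have hsep : ∀ P : Ideal D, ∃ e : D, P.IsMaximal → P ≠ Q → e ∈ P ∧ e ∉ Q := fun P => by
    by_cases h : P.IsMaximal ∧ P ≠ Q
    · obtain ⟨e, he, he'⟩ := SetLike.not_le_iff_exists.mp fun hle =>
        h.2 (h.1.eq_of_le (Ideal.IsMaximal.ne_top inferInstance) hle)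
      exact ⟨e, fun _ _ => ⟨he, he'⟩⟩
    · exact ⟨0, fun h1 h2 => absurd ⟨h1, h2⟩ h⟩
  choose e he using hsep
  let D₀ := Algebra.adjoin A (e '' {P : Ideal D | P.IsMaximal})
  have : Module.Finite A D₀ := ⟨(Submodule.fg_top _).mpr
    (fg_adjoin_of_finite (hfin.image e) fun x _ => Algebra.IsIntegral.isIntegral x)⟩
  have : (Q.comap D₀.val.toRingHom).IsMaximal := Ideal.isMaximal_comap_of_isIntegral_of_isMaximal'
    D₀.val.toRingHom (RingHom.IsIntegral.tower_top (algebraMap A D₀) D₀.val.toRingHom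
      (fun x => Algebra.IsIntegral.isIntegral x)) Q
  obtain ⟨ε, hε, hεQ, huniq⟩ := Henz21.exists_idempotent_isolating (A := A) (Q.comap D₀.val.toRingHom)
  refine ⟨ε.1, congrArg Subtype.val hε, hεQ, fun P hP hεP => ?_⟩
  by_contra hne
  have hmax : (P.comap D₀.val.toRingHom).IsMaximal := Ideal.isMaximal_comap_of_isIntegral_of_isMaximal'
    D₀.val.toRingHom (RingHom.IsIntegral.tower_top (algebraMap A D₀) D₀.val.toRingHom
      (fun x => Algebra.IsIntegral.isIntegral x)) P
  have h := huniq _ hmax hεP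
  obtain ⟨h1, h2⟩ := he P hP hne
  have hmem : (⟨e P, Algebra.subset_adjoin ⟨P, hP, rfl⟩⟩ : D₀) ∈ P.comap D₀.val.toRingHom := h1
  rw [h] at hmem
  exact h2 hmem

theorem isAffine_of_surjective {V : Scheme.{u}} [V.IsSeparated] [CompactSpace V] (q : Spec (CommRingCat.of D) ⟶ V)
    [Algebra.IsIntegral A D] (hq : Function.Surjective q) (hqc : IsClosedMap q)
    (hfin : {P : Ideal D | P.IsMaximal}.Finite) : IsAffine V := by
  classical
  choose ε hε hεQ huniq using fun Q : {P : Ideal D | P.IsMaximal} =>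
    have : Q.1.IsMaximal := Q.2
    exists_isolating (A := A) hfin Q.1
  have : Finite {P : Ideal D | P.IsMaximal} := hfin.to_subtype
  have : Fintype {P : Ideal D | P.IsMaximal} := Fintype.ofFinite _
  let pt : {P : Ideal D | P.IsMaximal} → Spec (CommRingCat.of D) := fun Q => ⟨Q.1, Q.2.isPrime⟩
  let E : {P : Ideal D | P.IsMaximal} → Set (Spec (CommRingCat.of D)) := fun Q => ((PrimeSpectrum.basicOpen (ε Q) : TopologicalSpace.Opens (PrimeSpectrum D)) : Set (PrimeSpectrum D))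
  have hE : ∀ Q, IsClosed (E Q) := fun Q => (PrimeSpectrum.isClopen_iff.mpr ⟨ε Q, hε Q, rfl⟩).1
  have hmaxI : ∀ (Q : {P : Ideal D | P.IsMaximal}) (M : Ideal D) (hM : M.IsMaximal),
      (⟨M, hM.isPrime⟩ : Spec (CommRingCat.of D)) ∈ E Q → M = Q.1 := fun Q M hM h => huniq Q M hM h
  have hptE : ∀ Q, pt Q ∈ E Q := fun Q => hεQ Q
  -- every point generizes a closed point, inside any closed set
  have hclosed : ∀ x : Spec (CommRingCat.of D), ∃ Q, x ⤳ pt Q := fun x => by
    obtain ⟨M, hM, hle⟩ := Ideal.exists_le_maximal (PrimeSpectrum.asIdeal x) x.2.ne_top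
    exact ⟨⟨M, hM⟩, (PrimeSpectrum.le_iff_specializes _ ⟨M, hM.isPrime⟩).mp hle⟩
  have hcl : ∀ Q, IsClosed ({pt Q} : Set (Spec (CommRingCat.of D))) := fun Q =>
    (PrimeSpectrum.isClosed_singleton_iff_isMaximal _).mpr Q.2
  have hqpt : ∀ Q, IsClosed ({q (pt Q)} : Set V) := fun Q => by
    simpa using hqc _ (hcl Q)
  let S : Set V := Set.range fun Q => q (pt Q)
  have hS : ∀ y : V, IsClosed ({y} : Set V) → y ∈ S := fun y hy => by
    obtain ⟨x, rfl⟩ := hq y
    obtain ⟨Q, hQ⟩ := hclosed x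
    refine ⟨Q, ?_⟩
    have := hy.stableUnderSpecialization (hQ.map q.continuous) rfl
    exact this
  let U : V → Set V := fun y => q '' ⋃ Q ∈ {Q | q (pt Q) = y}, E Q
  have hUc : ∀ y, IsClosed (U y) := fun y => hqc _ (Set.toFinite {Q | q (pt Q) = y} |>.isClosed_biUnion fun Q _ => hE Q)
  have hUy : ∀ y z, IsClosed ({z} : Set V) → z ∈ U y → z = y := by
    rintro y z hz ⟨x, hx, rfl⟩
    simp only [Set.mem_iUnion, Set.mem_setOf_eq] at hx
    obtain ⟨Q, hQy, hxQ⟩ := hx
    obtain ⟨Q', hQ'⟩ := hclosed x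
    have hm : pt Q' ∈ E Q := (hE Q).stableUnderSpecialization hQ' hxQ
    have hQQ : Q' = Q := Subtype.ext (hmaxI Q Q'.1 Q'.2 hm)
    subst hQQ
    exact (hz.stableUnderSpecialization (hQ'.map q.continuous) rfl).symm.trans hQy
  have hcov : ∀ v : V, ∃ Q, v ∈ U (q (pt Q)) := fun v => by
    obtain ⟨x, rfl⟩ := hq v
    obtain ⟨Q, hQ⟩ := hclosed x
    exact ⟨Q, x, Set.mem_biUnion (rfl : q (pt Q) = q (pt Q))
      (hQ.mem_open (PrimeSpectrum.basicOpen (ε Q)).isOpen (hptE Q)), rfl⟩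
  have hdisj : ∀ y y', IsClosed ({y} : Set V) → IsClosed ({y'} : Set V) → y ≠ y' → Disjoint (U y) (U y') := by
    intro y y' _ _ hne
    rw [Set.disjoint_iff_inter_eq_empty]
    by_contra h
    obtain ⟨z, hz, hzc⟩ := IsClosed.exists_closed_singleton ((hUc y).inter (hUc y')) (Set.nonempty_iff_ne_empty.mpr h)
    exact hne ((hUy y z hzc hz.1).symm.trans (hUy y' z hzc hz.2))
  have hUo : ∀ y ∈ S, IsOpen (U y) := by
    intro y hy
    have : U y = (⋃ z ∈ S \ {y}, U z)ᶜ := by
      ext v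
      simp only [Set.mem_compl_iff, Set.mem_iUnion, not_exists]
      constructor
      · rintro hv z ⟨⟨Q, rfl⟩, hne⟩ hv'
        obtain ⟨Q₀, rfl⟩ := hy
        exact (hdisj _ _ (hqpt Q₀) (hqpt Q) (Ne.symm hne)).le_bot ⟨hv, hv'⟩
      · intro hv
        obtain ⟨Q, hQ⟩ := hcov v
        by_cases e : q (pt Q) = y
        · rwa [e] at hQ
        · exact absurd hQ (hv _ ⟨⟨Q, rfl⟩, e⟩)
    rw [this]
    exact (Set.Finite.isClosed_biUnion ((Set.finite_range _).subset Set.diff_subset) fun z _ => hUc z).isOpen_compl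
  have haff : ∀ y (hy : y ∈ S), IsAffineOpen (⟨U y, hUo y hy⟩ : V.Opens) := by
    intro y hy
    obtain ⟨_, ⟨W₀, hW, rfl⟩, hyW, -⟩ :=
      V.isBasis_affineOpens.exists_subset_of_mem_open (Set.mem_univ y) isOpen_univ
    let W : V.Opens := W₀
    let U' : V.Opens := ⟨U y, hUo y hy⟩
    have hle : U' ≤ W := by
      intro v hv
      by_contra hvW
      obtain ⟨z, hz, hzc⟩ := IsClosed.exists_closed_singleton ((hUc y).inter W.2.isClosed_compl) ⟨v, hv, hvW⟩
      exact hz.2 (by rw [hUy y z hzc hz.1]; exact hyW)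
    have : IsClosedImmersion U'.ι := IsClosedImmersion.of_isPreimmersion U'.ι (by
      rw [Scheme.Opens.range_ι]; exact hUc y)
    have h := hW.preimage U'.ι
    rw [show U'.ι ⁻¹ᵁ W₀ = ⊤ from eq_top_iff.mpr fun x _ => hle x.2] at h
    have h' : IsAffine (⊤ : U'.toScheme.Opens).toScheme := h
    have : IsAffine U'.toScheme := .of_isIso U'.toScheme.topIso.inv
    exact this
  have hsup : ∀ s : Finset {y // y ∈ S}, IsAffineOpen (s.sup fun y => (⟨U y.1, hUo y.1 y.2⟩ : V.Opens)) := by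
    intro s
    induction s using Finset.induction with
    | empty => rw [Finset.sup_empty]; exact isAffineOpen_bot V
    | insert a s ha ih =>
      rw [Finset.sup_insert]
      refine IsAffineOpen.sup_of_disjoint (haff _ a.2) ih ?_
      rw [Finset.disjoint_sup_right]
      intro b hb
      have hne : a.1 ≠ b.1 := fun e => ha (Subtype.ext e ▸ hb)
      obtain ⟨Qa, hQa⟩ := a.2
      obtain ⟨Qb, hQb⟩ := b.2
      rw [disjoint_iff]
      refine SetLike.coe_injective ?_
      exact Set.disjoint_iff_inter_eq_empty.mp (hdisj _ _ (hQa ▸ hqpt Qa) (hQb ▸ hqpt Qb) hne)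
  have : Finite {y // y ∈ S} := (Set.finite_range _).to_subtype
  have : Fintype {y // y ∈ S} := Fintype.ofFinite _
  have htop : (Finset.univ.sup fun y : {y // y ∈ S} => (⟨U y.1, hUo y.1 y.2⟩ : V.Opens)) = ⊤ := by
    refine eq_top_iff.mpr fun v _ => ?_
    obtain ⟨Q, hQ⟩ := hcov v
    exact (Finset.le_sup (f := fun y : {y // y ∈ S} => (⟨U y.1, hUo y.1 y.2⟩ : V.Opens))
      (Finset.mem_univ ⟨q (pt Q), Q, rfl⟩)) hQ
  have : IsAffine (⊤ : V.Opens).toScheme := htop ▸ hsup Finset.univ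
  exact .of_isIso V.topIso.inv

end Groth.Agent.FinFib95
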